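import Cfsg.Agent.H180.RV.Self
import Cfsg.Agent.H49.McLFive
import Cfsg.Agent.BpSpor.HNFiveA
import Cfsg.Agent.H565.InvTwoB

/-!
# `¬ D_{2,5}` for `McL` and `HN` (helper180)
-/

set_option autoImplicit false

namespace Cfsg.Agent.H180.RV

open Subgroup Cfsg Cfsg.Agent.H571.DExt Cfsg.Agent.H171.Odd Cfsg.Agent.H555.RV

universe u

/-- a nonabelian subgroup of order `p ^ 3` in a larger Sylow subgroup -/
theorem no2_of_extra' {S : Type u} [Group S] [Finite S] {p a b m : ℕ} (hp : p.Prime) (hp2 : p ≠ 2)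
    (hS : Nat.card S = 2 ^ a * p ^ b * m) (h2 : ¬ 2 ∣ m) (hm : ¬ p ∣ m) (hI : Inv1 2 p S) {P : Subgroup S}
    (hcP : Nat.card P = p ^ 3) {x y : S} (hx : x ∈ P) (hy : y ∈ P) (hxy : x * y ≠ y * x)
    (ha : ∀ k, 1 ≤ k → k ≤ a → ¬ p ^ 2 ∣ 2 ^ k - 1) : ¬ Dom ({2, p} : Set ℕ) S := by
  intro hD
  have hfp : Fact p.Prime := ⟨hp⟩
  obtain ⟨K, Q, h⟩ := exists_KQ hp hp2 hS h2 hm hI hD
  obtain ⟨g, hg⟩ := h.conj_le (piN_of_pgroup hp (IsPGroup.of_card hcP))
  obtain ⟨k, h1, h3, h4⟩ := h.extra hp hp2 hg (by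
    rw [card_map_of_injective (MulAut.conj g).injective, hcP])
    ⟨_, ⟨x, hx, rfl⟩, _, ⟨y, hy, rfl⟩, fun h5 => hxy (by
      rw [← map_mul, ← map_mul] at h5
      exact (MulAut.conj g).injective h5)⟩
  exact ha k h1 h3 h4

/-! ### `McL` -/

open Cfsg.Agent.SporadicA Cfsg.Agent.SporadicStructure.Co0Matrix Cfsg.Agent.CoOneType.CoEval
  Cfsg.Agent.CoOneType.CoFast Cfsg.Agent.LThreeCo1.Ev Cfsg.Agent.H51.Mult
  Cfsg.Agent.H49.McLFive Cfsg.Agent.H49.Stab Cfsg.Agent.H49.MatMcL in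
theorem mcl_five : ¬ Dom ({2, 5} : Set ℕ) Spor.McL := by
  have := McLRow.fin
  have hx : ∀ i < 32, mx (i + 32) = (mx i)⁻¹ := by
    intro i hi
    unfold mx
    rw [if_neg (by omega), if_pos hi, Nat.add_sub_cancel]
  have W : ∀ {w w' : List ℕ}, eqB (xM M) w w' = true → (w.map mx).prod = (w'.map mx).prod := by
    intro w w' h
    apply incM_injective
    rw [incM_word, incM_word]
    exact eq_of_eqB (xrep okM) h
  have N : ∀ {w w' : List ℕ}, neB' (xM M) w w' = true → (w.map mx).prod ≠ (w'.map mx).prod := by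
    intro w w' h h0
    apply ne_of_neB' (xrep okM) h
    rw [← incM_word, ← incM_word, h0]
  have e33 : mx 33 = (mx 1)⁻¹ := hx 1 (by norm_num)
  have e34 : mx 34 = (mx 2)⁻¹ := hx 2 (by norm_num)
  have h1 : mx 1 ^ 5 = 1 := by
    have := W c1
    rwa [List.map_replicate, List.prod_replicate] at this
  have h2 : mx 2 ^ 5 = 1 := by
    have := W c2
    rwa [List.map_replicate, List.prod_replicate] at this
  have h3 : (mx 1 * mx 2 * (mx 1)⁻¹ * (mx 2)⁻¹) * mx 1 = mx 1 * (mx 1 * mx 2 * (mx 1)⁻¹ * (mx 2)⁻¹) := by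
    have := W c3
    simp only [List.map_cons, List.map_nil, List.prod_cons, List.prod_nil, mul_one, e33, e34] at this
    simpa only [mul_assoc] using this
  have h4 : (mx 1 * mx 2 * (mx 1)⁻¹ * (mx 2)⁻¹) * mx 2 = mx 2 * (mx 1 * mx 2 * (mx 1)⁻¹ * (mx 2)⁻¹) := by
    have := W c4
    simp only [List.map_cons, List.map_nil, List.prod_cons, List.prod_nil, mul_one, e33, e34] at this
    simpa only [mul_assoc] using this
  have h5 : mx 1 * mx 2 ≠ mx 2 * mx 1 := by
    have := N c5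
    simp only [List.map_cons, List.map_nil, List.prod_cons, List.prod_nil, mul_one] at this
    exact this
  set x := mx 1 with hxd
  set y := mx 2 with hyd
  set c := x * y * x⁻¹ * y⁻¹ with hcd
  have hxy : x * y = c * (y * x) := by rw [hcd]; group
  have hcp : c ^ 5 = 1 := by
    have h10 : y⁻¹ * x * y = c * x := by
      calc y⁻¹ * x * y = y⁻¹ * (x * y) := by group
        _ = y⁻¹ * (c * (y * x)) := by rw [← hxy]
        _ = y⁻¹ * (c * y) * x := by group
        _ = y⁻¹ * (y * c) * x := by rw [h4]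
        _ = c * x := by group
    have h11 : y⁻¹ * x ^ 5 * y = c ^ 5 * x ^ 5 := by
      have h12 : (y⁻¹ * x * y) ^ 5 = y⁻¹ * x ^ 5 * y := by
        have := conj_pow (i := 5) (a := y⁻¹) (b := x)
        rwa [inv_inv] at this
      rw [← h12, h10]
      exact (show Commute c x from h3).mul_pow 5
    rw [h1, mul_one, inv_mul_cancel, mul_one] at h11
    exact h11.symm
  have hc1 : c ≠ 1 := by
    intro h0
    rw [h0, one_mul] at hxy
    exact h5 hxy
  have hcP := Cfsg.Agent.CpAutHNFive.HTab.card_closure h1 h2 hcp hc1 h3.symm h4.symm (by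
    rw [hxy, ← mul_assoc, h4, mul_assoc, h3])
  exact no2_of_extra' (p := 5) (a := 7) (b := 3) (m := 56133) Nat.prime_five (by norm_num) (by rw [McLRow.card]; norm_num)
    (by norm_num) (by norm_num) (Cfsg.Agent.H14.InvTwoA.inv_mcl McLRow.iso) hcP (subset_closure (by simp))
    (subset_closure (by simp)) h5 (by
      intro k h1 h2
      interval_cases k <;> norm_num)

/-- **McL, `{2,5}`** -/
theorem no2_mcl_5 {S : Type u} [Group S] [Finite S] (h : Spor.IsoMcL S) : ¬ Dom ({2, 5} : Set ℕ) S := by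
  obtain ⟨e⟩ := h
  exact fun hD => mcl_five (dom_equiv e hD)

/-! ### `HN` -/

section

open Cfsg.Agent.HN.Pres Cfsg.Agent.HN.H0Basic
open Cfsg.Agent.HN.P1408 hiding ψ
open Cfsg.Agent.KFacts.HN
open Cfsg.Agent.CpAutHNFive Cfsg.Agent.CpAutHNFive.LFive Cfsg.Agent.CpAutHNFive.PFive
open Cfsg.Agent.CpAutHNFive.TFive Cfsg.Agent.CpAutHNFive.HFacts
open Cfsg.Agent.CpAutHNFive.HTab
open Cfsg.Agent.CpAutHNFive.TauFive

theorem hn_five : ¬ Dom ({2, 5} : Set ℕ) Spor.HN := by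
  have hc : Nat.card Spor.HN = 273030912000000 := NotCT.Orders.hn ⟨MulEquiv.refl _⟩
  have hfin : Finite Spor.HN := Nat.finite_of_card_ne_zero (by rw [hc]; norm_num)
  set ψ := Cfsg.Agent.HN.NormalH.ψ with hψ
  have hne : ψ (hw wz) ≠ 1 := fun h => z1 (emb.inj (by rw [h, map_one]))
  have hcd : ψ (hw wc) * ψ (hw wd) = ψ (hw wd) * (ψ (hw wc) * ψ (hw wz)) := by
    rw [← map_mul, cd, map_mul, map_mul]
  have hcz : ψ (hw wc) * ψ (hw wz) = ψ (hw wz) * ψ (hw wc) := by rw [← map_mul, cz, map_mul]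
  have hdz : ψ (hw wd) * ψ (hw wz) = ψ (hw wz) * ψ (hw wd) := by rw [← map_mul, dz, map_mul]
  have hcP := card_closure (c := ψ (hw wc)) (d := ψ (hw wd)) (z := ψ (hw wz)) (by rw [← map_pow, HTab.c5, map_one])
    (by rw [← map_pow, d5, map_one]) (by rw [← map_pow, z5, map_one]) hne hcz hdz hcd
  refine no2_of_extra' (p := 5) (a := 14) (b := 6) (m := 1066527) Nat.prime_five (by norm_num) (by rw [hc]; norm_num)
    (by norm_num) (by norm_num) (Cfsg.Agent.H565.InvTwoB.inv_hn ⟨MulEquiv.refl _⟩) hcP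
    (subset_closure (by simp)) (subset_closure (by simp)) (x := ψ (hw wc)) (y := ψ (hw wd)) (fun h => hne ?_) (by
      intro k h1 h2
      interval_cases k <;> norm_num)
  have h2 : ψ (hw wd) * (ψ (hw wc) * ψ (hw wz)) = ψ (hw wd) * ψ (hw wc) := by rw [← hcd, h]
  have h3 := mul_left_cancel h2
  simpa using h3

end

/-- **HN, `{2,5}`** -/
theorem no2_hn_5 {S : Type u} [Group S] [Finite S] (h : Spor.IsoHN S) : ¬ Dom ({2, 5} : Set ℕ) S := by
  obtain ⟨e⟩ := h
  have := Finite.of_equiv S e.toEquiv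
  exact fun hD => hn_five (dom_equiv e hD)

end Cfsg.Agent.H180.RV
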